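import Groth.Agent.H12.CycOmega.Rel
import Groth.Agent.Lib.Pinch.FrameSpread

/-!
# Images of frames of logarithmic forms
-/

set_option autoImplicit false
set_option linter.style.haveILetI false
set_option maxHeartbeats 400000
universe u
open CategoryTheory AlgebraicGeometry TopologicalSpace Opposite
open Groth.Agent.Lib.TensorMod.Dual (rs rf rs_rs rs_smul rs_self)
open Groth.Agent.H12.CycConn
open Groth.Agent.Lib.Pinch.StalkFrame (IsFrame comb)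
open scoped TensorProduct

namespace Groth.Agent.H12.CycOmega

variable {k : Type u} [Field k] {X : Scheme.{u}} {f : X ⟶ Spec (CommRingCat.of k)} {Y : Scheme.{u}} {π : Y ⟶ X}
  {ΩX : X.Modules} {dX : OmegaSh.Der f ΩX} {ΩY : Y.Modules} {dY : OmegaSh.Der (π ≫ f) ΩY}
  {αH : ΩX ⟶ (Scheme.Modules.pushforward π).obj ΩY}
  (hα : ∀ (U : X.Opens) (b : Γ(X, U)),
      (show Γ(ΩY, π ⁻¹ᵁ U) from αH.app U (dX.app U b)) = dY.app (π ⁻¹ᵁ U) ((π.app U).hom b))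
  [IsAffineHom π] (hdX : OmegaSh.IsUniversal dX) (hdY : OmegaSh.IsUniversal dY)

include hα hdX hdY in
theorem isBasis_pre (U₀ : X.affineOpens) (het : (π.app U₀.1).hom.Etale) {n : ℕ}
    (bX : Module.Basis (Fin n) Γ(X, U₀.1) Γ(ΩX, U₀.1)) :
    Lib.TensorMod.Basis.IsBasis fun l => (show Γ(ΩY, π ⁻¹ᵁ U₀.1) from αH.app U₀.1 (bX l)) := by
  haveI := Lib.Kaehler.Finite.isQuasicoherent hdY
  have hT := isAffineOpen_top (Spec (CommRingCat.of k))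
  obtain ⟨EX, hEX⟩ := Lib.Conormal92.OmegaSect.exists_equiv f U₀.2 hT (le_top : U₀.1 ≤ f ⁻¹ᵁ ⊤) hdX
  obtain ⟨EY, hEY⟩ := Lib.Conormal92.OmegaSect.exists_equiv (π ≫ f) (U₀.2.preimage π) hT
    (le_top : π ⁻¹ᵁ U₀.1 ≤ (π ≫ f) ⁻¹ᵁ ⊤) hdY
  letI : Algebra Γ(Spec (CommRingCat.of k), ⊤) Γ(X, U₀.1) := (f.appLE ⊤ U₀.1 le_top).hom.toAlgebra
  letI : Algebra Γ(Spec (CommRingCat.of k), ⊤) Γ(Y, π ⁻¹ᵁ U₀.1) :=
    ((π ≫ f).appLE ⊤ (π ⁻¹ᵁ U₀.1) le_top).hom.toAlgebra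
  letI : Algebra Γ(X, U₀.1) Γ(Y, π ⁻¹ᵁ U₀.1) := (π.app U₀.1).hom.toAlgebra
  haveI : IsScalarTower Γ(Spec (CommRingCat.of k), ⊤) Γ(X, U₀.1) Γ(Y, π ⁻¹ᵁ U₀.1) := by
    refine IsScalarTower.of_algebraMap_eq fun c => ?_
    have h : (π ≫ f).appLE ⊤ (π ⁻¹ᵁ U₀.1) le_top = f.appLE ⊤ U₀.1 le_top ≫ π.app U₀.1 := by
      rw [← Scheme.Hom.appLE_eq_app π, Scheme.Hom.appLE_comp_appLE]
    exact congr($h c)
  haveI : Algebra.Etale Γ(X, U₀.1) Γ(Y, π ⁻¹ᵁ U₀.1) := het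
  let EX' : Γ(ΩX, U₀.1) ≃ₗ[Γ(X, U₀.1)] Ω[Γ(X, U₀.1)⁄Γ(Spec (CommRingCat.of k), ⊤)] := EX
  let EY' : Γ(ΩY, π ⁻¹ᵁ U₀.1) ≃ₗ[Γ(Y, π ⁻¹ᵁ U₀.1)] Ω[Γ(Y, π ⁻¹ᵁ U₀.1)⁄Γ(Spec (CommRingCat.of k), ⊤)] := EY
  let φ : Γ(ΩX, U₀.1) →+ Ω[Γ(Y, π ⁻¹ᵁ U₀.1)⁄Γ(Spec (CommRingCat.of k), ⊤)] :=
    AddMonoidHom.mk' (fun w => EY' (show Γ(ΩY, π ⁻¹ᵁ U₀.1) from αH.app U₀.1 w)) fun a b =>
      (congrArg EY' (map_add (αH.app U₀.1).hom a b)).trans (map_add EY' _ _)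
  have hφs : ∀ (c : Γ(X, U₀.1)) w, φ (c • w) = c • φ w := fun c w => by
    rw [← algebraMap_smul Γ(Y, π ⁻¹ᵁ U₀.1) c (φ w)]
    exact (congrArg EY' (alpha_smul c w)).trans (map_smul EY' _ _)
  have hcomp : ∀ w, EY' (show Γ(ΩY, π ⁻¹ᵁ U₀.1) from αH.app U₀.1 w) =
      KaehlerDifferential.map Γ(Spec (CommRingCat.of k), ⊤) Γ(Spec (CommRingCat.of k), ⊤) Γ(X, U₀.1) Γ(Y, π ⁻¹ᵁ U₀.1) (EX' w) := by
    intro w
    obtain ⟨z, rfl⟩ := EX'.symm.surjective w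
    rw [LinearEquiv.apply_symm_apply]
    show φ (EX'.symm z) = _
    have hz : z ∈ Submodule.span Γ(X, U₀.1) (Set.range (KaehlerDifferential.D Γ(Spec (CommRingCat.of k), ⊤) Γ(X, U₀.1))) := by
      rw [KaehlerDifferential.span_range_derivation]; trivial
    induction hz using Submodule.span_induction with
    | mem z hz =>
      obtain ⟨b, rfl⟩ := hz
      rw [KaehlerDifferential.map_D, show EX'.symm (KaehlerDifferential.D _ _ b) = dX.app U₀.1 b from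
        EX'.symm_apply_eq.2 (hEX b).symm]
      exact (congrArg EY' (hα U₀.1 b)).trans (hEY _)
    | zero => simp only [map_zero]
    | add p q _ _ hp hq => rw [map_add, map_add, map_add, hp, hq]
    | smul c p _ hp => rw [map_smul EX'.symm, hφs, map_smul, hp]
  let bY : Module.Basis (Fin n) Γ(Y, π ⁻¹ᵁ U₀.1) Γ(ΩY, π ⁻¹ᵁ U₀.1) :=
    ((Algebra.TensorProduct.basis Γ(Y, π ⁻¹ᵁ U₀.1) (bX.map EX')).map
      (KaehlerDifferential.tensorKaehlerEquivOfFormallyEtale Γ(Spec (CommRingCat.of k), ⊤) Γ(X, U₀.1) Γ(Y, π ⁻¹ᵁ U₀.1))).map EY'.symm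
  have hb : ∀ l, bY l = (show Γ(ΩY, π ⁻¹ᵁ U₀.1) from αH.app U₀.1 (bX l)) := fun l => by
    rw [Module.Basis.map_apply, LinearEquiv.symm_apply_eq, hcomp, Module.Basis.map_apply,
      Algebra.TensorProduct.basis_apply, KaehlerDifferential.tensorKaehlerEquivOfFormallyEtale_apply,
      KaehlerDifferential.mapBaseChange_tmul, one_smul, Module.Basis.map_apply]
  simp only [← hb]
  exact Lib.BlowPB.Frame.isBasis (U₀.2.preimage π) bY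

variable {r : ℕ} {D : Fin r → X.IdealSheafData}
  {ΛX : LogNCD.LogMod dX D} {ΛY : LogNCD.LogMod dY (fun j : Fin r => ((D j).comap π).radical)}
  {ψ : ΛX.L ⟶ (Scheme.Modules.pushforward π).obj ΛY.L}
  (hψ : ∀ (U : X.affineOpens) (C : Data π D U) (m : Γ(ΛX.L, U.1)),
      Rel π ΛX.ι ΛY.ι αH U.1 (∏ l, C.g l) m (show Γ(ΛY.L, π ⁻¹ᵁ U.1) from ψ.app U.1 m))

variable {U : X.affineOpens} (C : Data π D U) {n : ℕ} {c : Fin n → Γ(ΛX.L, U.1)} (hc : IsFrame ΛX.L U.1 c)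

/-- images of the frame -/
noncomputable abbrev img (ψ : ΛX.L ⟶ (Scheme.Modules.pushforward π).obj ΛY.L) (c : Fin n → Γ(ΛX.L, U.1)) :
    Fin n → Γ(ΛY.L, π ⁻¹ᵁ U.1) := fun l => ψ.app U.1 (c l)

include hc in
theorem psi_mem (m : Γ(ΛX.L, U.1)) : (show Γ(ΛY.L, π ⁻¹ᵁ U.1) from ψ.app U.1 m) ∈
    Submodule.span Γ(Y, π ⁻¹ᵁ U.1) (Set.range (img ψ c)) := by
  obtain ⟨b, rfl⟩ := Lib.Pinch.StalkFrame.comb_surjective hc le_rfl m
  have h : (show Γ(ΛY.L, π ⁻¹ᵁ U.1) from ψ.app U.1 (comb c le_rfl b)) =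
      ∑ l, (π.app U.1).hom (b l) • img ψ c l := by
    refine (map_sum (ψ.app U.1).hom _ _).trans (Finset.sum_congr rfl fun l _ => ?_)
    rw [rs_self]
    exact Scheme.Modules.Hom.app_smul ψ _ _
  rw [h]
  exact Submodule.sum_mem _ fun l _ => Submodule.smul_mem _ _ (Submodule.subset_span ⟨l, rfl⟩)

include hα hψ C hc in
theorem d_pull_mem (b : Γ(X, U.1)) : (LogNCD.der ΛY).app (π ⁻¹ᵁ U.1) ((π.app U.1).hom b) ∈
    Submodule.span Γ(Y, π ⁻¹ᵁ U.1) (Set.range (img ψ c)) := by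
  have h1 := psi_mem (ψ := ψ) hc (ΛX.ι.app U.1 (dX.app U.1 b))
  have h2 : Rel π ΛX.ι ΛY.ι αH U.1 (∏ l, C.g l) (ΛX.ι.app U.1 (dX.app U.1 b))
      ((LogNCD.der ΛY).app (π ⁻¹ᵁ U.1) ((π.app U.1).hom b)) := by
    refine ⟨(∏ l, C.g l) • dX.app U.1 b, (Scheme.Modules.Hom.app_smul ΛX.ι _ _).symm, ?_⟩
    refine Eq.trans ?_ (congrArg (ΛY.ι.app (π ⁻¹ᵁ U.1)) (alpha_smul (αH := αH) (∏ l, C.g l) (dX.app U.1 b)).symm)
    rw [hα]
    exact (Scheme.Modules.Hom.app_smul ΛY.ι _ _).symm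
  rwa [Rel.unique C (hψ U C _) h2] at h1

include hα hψ hc in
theorem gens_mem {a : Γ(X, U.1)} {σ ω : Γ(Y, π ⁻¹ᵁ U.1)} {u₀ : Γ(X, U.1)ˣ} {d m i : ℕ}
    (hd : (d : k) ≠ 0) (hm : (m : k) ≠ 0) (hω : ω ^ d = (π.app U.1).hom (u₀ : Γ(X, U.1)))
    (hσ : σ ^ m = ω ^ i * (π.app U.1).hom a)
    (hgen : letI : Algebra Γ(X, U.1) Γ(Y, π ⁻¹ᵁ U.1) := (π.app U.1).hom.toAlgebra
      Algebra.adjoin Γ(X, U.1) ({σ, ω} : Set Γ(Y, π ⁻¹ᵁ U.1)) = ⊤)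
    (hh : ∀ j, C.h j = 1 ∨ (C.h j = σ ∧ C.g j = a ∧ C.m j = m ∧ (C.v j : Γ(Y, π ⁻¹ᵁ U.1)) * ω ^ i = 1))
    (hcase : IsUnit a ∨ ∃ j, C.h j = σ ∧ C.g j = a ∧ C.m j = m ∧ (C.v j : Γ(Y, π ⁻¹ᵁ U.1)) * ω ^ i = 1)
    {dl' : Fin r → Γ(ΛY.L, π ⁻¹ᵁ U.1)} (hdl' : ∀ j, C.h j • dl' j = (LogNCD.der ΛY).app (π ⁻¹ᵁ U.1) (C.h j)) :
    (∀ y : Γ(Y, π ⁻¹ᵁ U.1), (LogNCD.der ΛY).app (π ⁻¹ᵁ U.1) y ∈
        Submodule.span Γ(Y, π ⁻¹ᵁ U.1) (Set.range (img ψ c))) ∧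
      ∀ j, dl' j ∈ Submodule.span Γ(Y, π ⁻¹ᵁ U.1) (Set.range (img ψ c)) := by
  classical
  set P := Submodule.span Γ(Y, π ⁻¹ᵁ U.1) (Set.range (img ψ c)) with hP
  set δ := fun y => (LogNCD.der ΛY).app (π ⁻¹ᵁ U.1) y with hδ
  have hunit : ∀ q : ℕ, (q : k) ≠ 0 → IsUnit (q : Γ(Y, π ⁻¹ᵁ U.1)) := fun q hq => by
    rw [← map_natCast (CycNCD.str (π ≫ f) (π ⁻¹ᵁ U.1))]; exact (isUnit_iff_ne_zero.mpr hq).map _
  have hd0 : d ≠ 0 := by rintro rfl; exact hd Nat.cast_zero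
  have hm0 : m ≠ 0 := by rintro rfl; exact hm Nat.cast_zero
  have hωu : IsUnit ω := (isUnit_pow_iff hd0).mp (hω ▸ u₀.isUnit.map _)
  have hpull := d_pull_mem hα hψ C hc
  have hpowd : ∀ (y : Γ(Y, π ⁻¹ᵁ U.1)) (q : ℕ), IsUnit y → (q : k) ≠ 0 → δ (y ^ q) ∈ P → δ y ∈ P := by
    intro y q hy hq hmem
    have h1 := IsDlog.pow (isDlog_unit (δ := LogNCD.der ΛY) hy.unit) q
    rw [IsDlog, IsUnit.unit_spec, smul_smul, smul_smul] at h1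
    simp only [δ] at hmem ⊢
    rw [← h1] at hmem
    exact (Submodule.smul_mem_iff_of_isUnit P (((hy.pow q).mul (hunit q hq)).mul (Units.isUnit _))).mp hmem
  have hdω : δ ω ∈ P := hpowd ω d hωu hd (by rw [hω]; exact hpull _)
  have hdωi : δ (ω ^ i) ∈ P := by
    have h1 := IsDlog.pow (isDlog_unit (δ := LogNCD.der ΛY) hωu.unit) i
    rw [IsDlog, IsUnit.unit_spec] at h1
    show (LogNCD.der ΛY).app _ (ω ^ i) ∈ P
    rw [← h1]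
    exact P.smul_mem _ (P.smul_mem _ (P.smul_mem _ hdω))
  have hdl0 : ∀ j, C.h j = 1 → dl' j = 0 := fun j hj => by
    have := hdl' j
    rwa [hj, one_smul, der_one] at this
  have hdlσ : ∀ j, C.h j = σ → C.g j = a → C.m j = m → (C.v j : Γ(Y, π ⁻¹ᵁ U.1)) * ω ^ i = 1 → dl' j ∈ P := by
    intro j h1 h2 h3 h4
    obtain ⟨-, dl, hdl, -, -, -⟩ := ΛX.rule U C.g C.hg
    have hz := psi_mem (ψ := ψ) hc (dl j)
    rw [Rel.unique C (hψ U C _) (exists_rel_dl hα C j (hdl j) (hdl' j))] at hz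
    have hv : δ (C.v j : Γ(Y, π ⁻¹ᵁ U.1)) ∈ P := by
      have h5 := der_mul (LogNCD.der ΛY) (C.v j : Γ(Y, π ⁻¹ᵁ U.1)) (ω ^ i)
      rw [h4, der_one, eq_comm, add_comm, ← eq_neg_iff_add_eq_zero] at h5
      have h6 : δ (C.v j : Γ(Y, π ⁻¹ᵁ U.1)) = (C.v j : Γ(Y, π ⁻¹ᵁ U.1)) • ω ^ i • δ (C.v j : Γ(Y, π ⁻¹ᵁ U.1)) := by
        rw [smul_smul, h4, one_smul]
      rw [h6, h5]
      exact P.smul_mem _ (P.neg_mem (P.smul_mem _ hdωi))
    have h8 : (C.m j : Γ(Y, π ⁻¹ᵁ U.1)) • dl' j ∈ P := (Submodule.add_mem_iff_right _ (P.smul_mem _ hv)).mp hz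
    rw [h3] at h8
    exact (Submodule.smul_mem_iff_of_isUnit P (hunit m hm)).mp h8
  have hdσ : δ σ ∈ P := by
    rcases hcase with ha | ⟨j, h1, h2, h3, h4⟩
    · refine hpowd σ m ((isUnit_pow_iff hm0).mp (hσ ▸ (hωu.pow i).mul (ha.map _))) hm ?_
      rw [hσ]
      show (LogNCD.der ΛY).app _ _ ∈ P
      rw [der_mul]
      exact P.add_mem (P.smul_mem _ (hpull a)) (P.smul_mem _ hdωi)
    · show (LogNCD.der ΛY).app _ σ ∈ P
      rw [← h1, ← hdl' j]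
      exact P.smul_mem _ (hdlσ j h1 h2 h3 h4)
  refine ⟨fun y => ?_, fun j => ?_⟩
  · letI : Algebra Γ(X, U.1) Γ(Y, π ⁻¹ᵁ U.1) := (π.app U.1).hom.toAlgebra
    have hy : y ∈ Algebra.adjoin Γ(X, U.1) ({σ, ω} : Set Γ(Y, π ⁻¹ᵁ U.1)) := hgen ▸ Algebra.mem_top
    induction hy using Algebra.adjoin_induction with
    | mem y hy => rcases hy with rfl | rfl; exacts [hdσ, hdω]
    | algebraMap b => exact hpull b
    | add p q _ _ hp hq => rw [map_add]; exact P.add_mem hp hq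
    | mul p q _ _ hp hq => rw [der_mul]; exact P.add_mem (P.smul_mem _ hq) (P.smul_mem _ hp)
  · rcases hh j with h | ⟨h1, h2, h3, h4⟩
    · rw [hdl0 j h]; exact zero_mem _
    · exact hdlσ j h1 h2 h3 h4

end Groth.Agent.H12.CycOmega

namespace Groth.Agent.H12.CycOmega

variable {k : Type u} [Field k] {X : Scheme.{u}} {f : X ⟶ Spec (CommRingCat.of k)} {Y : Scheme.{u}} {π : Y ⟶ X}
  {ΩX : X.Modules} {dX : OmegaSh.Der f ΩX} {ΩY : Y.Modules} {dY : OmegaSh.Der (π ≫ f) ΩY}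
  {αH : ΩX ⟶ (Scheme.Modules.pushforward π).obj ΩY}
  (hα : ∀ (U : X.Opens) (b : Γ(X, U)),
      (show Γ(ΩY, π ⁻¹ᵁ U) from αH.app U (dX.app U b)) = dY.app (π ⁻¹ᵁ U) ((π.app U).hom b))
  [IsAffineHom π] (hdX : OmegaSh.IsUniversal dX) (hdY : OmegaSh.IsUniversal dY)
  {r : ℕ} {D : Fin r → X.IdealSheafData}
  {ΛX : LogNCD.LogMod dX D} {ΛY : LogNCD.LogMod dY (fun j : Fin r => ((D j).comap π).radical)}
  {ψ : ΛX.L ⟶ (Scheme.Modules.pushforward π).obj ΛY.L}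
  (hψ : ∀ (U : X.affineOpens) (C : Data π D U) (m : Γ(ΛX.L, U.1)),
      Rel π ΛX.ι ΛY.ι αH U.1 (∏ l, C.g l) m (show Γ(ΛY.L, π ⁻¹ᵁ U.1) from ψ.app U.1 m))
  {U : X.affineOpens} (C : Data π D U) {n : ℕ} {c : Fin n → Γ(ΛX.L, U.1)} (hc : IsFrame ΛX.L U.1 c)

include C in
/-- Spanning over a basic open. -/
theorem span_basicOpen (hdY : OmegaSh.IsUniversal dY) (z : Fin n → Γ(ΛY.L, π ⁻¹ᵁ U.1))
    (hd : ∀ y : Γ(Y, π ⁻¹ᵁ U.1), (LogNCD.der ΛY).app (π ⁻¹ᵁ U.1) y ∈ Submodule.span Γ(Y, π ⁻¹ᵁ U.1) (Set.range z))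
    {dl' : Fin r → Γ(ΛY.L, π ⁻¹ᵁ U.1)} (hdl' : ∀ j, C.h j • dl' j = (LogNCD.der ΛY).app (π ⁻¹ᵁ U.1) (C.h j))
    (hl : ∀ j, dl' j ∈ Submodule.span Γ(Y, π ⁻¹ᵁ U.1) (Set.range z))
    (δ : Γ(Y, π ⁻¹ᵁ U.1)) : Function.Surjective (comb z (Y.basicOpen_le δ)) := by
  have hW : IsAffineOpen (Y.basicOpen δ) := (U.2.preimage π).basicOpen δ
  set h := Y.basicOpen_le δ with hh
  let W : Y.affineOpens := ⟨Y.basicOpen δ, hW⟩
  set P := Submodule.span Γ(Y, W.1) (Set.range fun l => rs ΛY.L h (z l)) with hP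
  have hres : ∀ m ∈ Submodule.span Γ(Y, π ⁻¹ᵁ U.1) (Set.range z), rs ΛY.L h m ∈ P := by
    intro m hm
    obtain ⟨a, rfl⟩ := (Submodule.mem_span_range_iff_exists_fun _).1 hm
    rw [Lib.Modules.TensorSec.rs_sum]
    exact Submodule.sum_mem _ fun l _ => by rw [rs_smul]; exact P.smul_mem _ (Submodule.subset_span ⟨l, rfl⟩)
  have hdres : ∀ y, (LogNCD.der ΛY).app W.1 (rf h y) ∈ P := fun y => by
    rw [← der_rs]; exact hres _ (hd y)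
  have hdall : ∀ y : Γ(Y, W.1), (LogNCD.der ΛY).app W.1 y ∈ P := by
    intro y
    letI : Algebra Γ(Y, π ⁻¹ᵁ U.1) Γ(Y, W.1) := (Y.presheaf.map (homOfLE h).op).hom.toAlgebra
    haveI : IsLocalization.Away δ Γ(Y, W.1) := (U.2.preimage π).isLocalization_basicOpen δ
    obtain ⟨q, a, hqa⟩ := IsLocalization.Away.surj δ y
    have hu : IsUnit ((rf h δ) ^ q) := (IsLocalization.Away.algebraMap_isUnit δ).pow q
    have h1 : (LogNCD.der ΛY).app W.1 (y * rf h δ ^ q) ∈ P := by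
      rw [show y * rf h δ ^ q = rf h a from hqa]; exact hdres a
    rw [der_mul] at h1
    have h2 : (LogNCD.der ΛY).app W.1 (rf h δ ^ q) ∈ P := by
      rw [show rf h δ ^ q = rf h (δ ^ q) from (map_pow _ _ _).symm]; exact hdres _
    exact (Submodule.smul_mem_iff_of_isUnit P hu).mp ((Submodule.add_mem_iff_right _ (P.smul_mem _ h2)).mp h1)
  intro m
  obtain ⟨hregW, dlW, hdlW, hspan, -, -⟩ := ΛY.rule W (fun j => rf h (C.h j))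
    (fun j => Lib.LogNCD37.SubLog.ideal_restrict _ (U := pre π U) (V := W) h (C.hh j))
  have hm : m ∈ Submodule.span Γ(Y, W.1) ((Set.range fun w : Γ(ΩY, W.1) => ΛY.ι.app W.1 w) ∪ Set.range dlW : Set Γ(ΛY.L, W.1)) :=
    hspan.ge trivial
  have hmP : m ∈ P := by
    refine Submodule.span_le.2 ?_ hm
    rintro _ (⟨w, rfl⟩ | ⟨j, rfl⟩)
    · obtain ⟨E, hE⟩ := Lib.Conormal92.OmegaSect.exists_equiv (π ≫ f) hW (isAffineOpen_top _)
        (le_top : Y.basicOpen δ ≤ (π ≫ f) ⁻¹ᵁ ⊤) hdY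
      letI : Algebra Γ(Spec (CommRingCat.of k), ⊤) Γ(Y, W.1) :=
        ((π ≫ f).appLE ⊤ (Y.basicOpen δ) le_top).hom.toAlgebra
      let E' : Γ(ΩY, W.1) ≃ₗ[Γ(Y, W.1)] Ω[Γ(Y, W.1)⁄Γ(Spec (CommRingCat.of k), ⊤)] := E
      obtain ⟨q, rfl⟩ := E'.symm.surjective w
      have hq : q ∈ Submodule.span Γ(Y, W.1) (Set.range (KaehlerDifferential.D Γ(Spec (CommRingCat.of k), ⊤) Γ(Y, W.1))) := by
        rw [KaehlerDifferential.span_range_derivation]; trivial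
      show ΛY.ι.app W.1 (E'.symm q) ∈ P
      induction hq using Submodule.span_induction with
      | mem q hq =>
        obtain ⟨y, rfl⟩ := hq
        rw [show E'.symm (KaehlerDifferential.D _ _ y) = dY.app W.1 y from E'.symm_apply_eq.2 (hE y).symm]
        exact hdall y
      | zero => rw [map_zero E'.symm]; exact (map_zero (ΛY.ι.app W.1).hom).symm ▸ P.zero_mem
      | add a b _ _ ha hb => rw [map_add E'.symm, map_add]; exact P.add_mem ha hb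
      | smul a b _ hb => rw [map_smul E'.symm, Scheme.Modules.Hom.app_smul]; exact P.smul_mem _ hb
    · have : dlW j = rs ΛY.L h (dl' j) := by
        refine sub_eq_zero.1 (hregW _ ?_)
        classical
        rw [← Finset.prod_erase_mul _ _ (Finset.mem_univ j), mul_smul, smul_sub]
        have h1 : rf h (C.h j) • rs ΛY.L h (dl' j) = (LogNCD.der ΛY).app W.1 (rf h (C.h j)) := by
          rw [← rs_smul, hdl', der_rs]
        refine (congrArg ((∏ i ∈ Finset.univ.erase j, rf h (C.h i)) • ·) (sub_eq_zero.2 ?_)).trans (smul_zero _)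
        exact (hdlW j).trans h1.symm
      rw [this]
      exact hres _ (hl j)
  obtain ⟨a, ha⟩ := (Submodule.mem_span_range_iff_exists_fun _).1 hmP
  exact ⟨a, ha⟩

include hα hdX hdY hψ C hc in
theorem injective_img [AlgebraicGeometry.IsReduced Y] {a : Γ(X, U.1)}
    (het : ∀ (U₀ : X.affineOpens), U₀.1 ≤ U.1 → U₀.1 ≤ X.basicOpen a → Nonempty U₀.1 → (π.app U₀.1).hom.Etale)
    (hgu : ∀ j, IsUnit (rf (X.basicOpen_le a) (C.g j)))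
    (hne : Nonempty (X.basicOpen a)) (hdense : Dense ((π ⁻¹ᵁ X.basicOpen a : Y.Opens) : Set Y))
    (W : Y.Opens) (hW : W ≤ π ⁻¹ᵁ U.1) (t : Fin n → Γ(Y, W))
    (ht : comb (img ψ c) hW t = 0) : t = 0 := by
  classical
  let U₀ : X.affineOpens := X.affineBasicOpen a
  have h₀ : U₀.1 ≤ U.1 := X.basicOpen_le a
  choose w hw1 hw2 using fun l => hψ U C (c l)
  let G₀ : Γ(X, U₀.1) := rf h₀ (∏ j, C.g j)
  have hG : IsUnit G₀ := by
    rw [show G₀ = ∏ j, rf h₀ (C.g j) from map_prod _ _ _]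
    exact IsUnit.prod_univ_iff.mpr hgu
  let w₀ : Fin n → Γ(ΩX, U₀.1) := fun l => rs ΩX h₀ (w l)
  have hw₀ : ∀ l, ΛX.ι.app U₀.1 (w₀ l) = G₀ • rs ΛX.L h₀ (c l) := fun l => by
    rw [← rs_smul, hw1]
    exact Lib.ClSub.Basis.map_app ΛX.ι h₀ _
  haveI := ΛX.mono
  have hinjι : Function.Injective (ΛX.ι.app U₀.1) := Lib.LogNCD37.SubLog.app_injective ΛX.ι U₀.1
  have hcomb : ∀ q : Fin n → Γ(X, U₀.1), ΛX.ι.app U₀.1 (∑ l, q l • w₀ l) = G₀ • comb c h₀ q := by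
    intro q
    rw [map_sum, comb, Finset.smul_sum]
    exact Finset.sum_congr rfl fun l _ => by rw [Scheme.Modules.Hom.app_smul, hw₀, smul_comm]
  have hli : LinearIndependent Γ(X, U₀.1) w₀ := Fintype.linearIndependent_iff.2 fun q hq => by
    refine congrFun (Lib.Pinch.StalkFrame.comb_injective hc h₀ (a₁ := q) (a₂ := 0) (hG.smul_left_cancel.mp ?_))
    rw [← hcomb, hq, map_zero, show comb c h₀ (0 : Fin n → Γ(X, U₀.1)) = 0 by simp [comb], smul_zero]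
  have hsp : ⊤ ≤ Submodule.span Γ(X, U₀.1) (Set.range w₀) := fun v _ => by
    obtain ⟨q, hq⟩ := Lib.Pinch.StalkFrame.comb_surjective hc h₀ ((↑hG.unit⁻¹ : Γ(X, U₀.1)) • ΛX.ι.app U₀.1 v)
    rw [show v = ∑ l, q l • w₀ l from hinjι (by rw [hcomb, hq, smul_smul, hG.mul_val_inv, one_smul])]
    exact Submodule.sum_mem _ fun l _ => Submodule.smul_mem _ _ (Submodule.subset_span ⟨l, rfl⟩)
  have hbasis := isBasis_pre hα hdX hdY U₀ (het U₀ h₀ le_rfl hne) (Module.Basis.mk hli hsp)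
  funext l
  let V : Y.Opens := W ⊓ π ⁻¹ᵁ U₀.1
  have hVW : V ≤ W := inf_le_left
  have hV₀ : V ≤ π ⁻¹ᵁ U₀.1 := inf_le_right
  haveI := ΛY.mono
  have hinjY : Function.Injective (ΛY.ι.app V) := Lib.LogNCD37.SubLog.app_injective ΛY.ι V
  have key : (fun l => rf hVW (t l)) = 0 := by
    refine (hbasis V hV₀).1 (a₂ := 0) (hinjY ?_)
    have h1 := congrArg (fun m => rf (hVW.trans hW) ((π.app U.1).hom (∏ j, C.g j)) • rs ΛY.L hVW m) ht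
    simp only [comb, Lib.Modules.TensorSec.rs_sum, rs_smul, rs_rs, Lib.Modules.TensorSec.rs_zero, smul_zero, Finset.smul_sum] at h1
    have h2 : Lib.TensorMod.Basis.comb (fun l => (show Γ(ΩY, π ⁻¹ᵁ U₀.1) from αH.app U₀.1 (Module.Basis.mk hli hsp l))) hV₀ 0 = 0 := by
      simp [Lib.TensorMod.Basis.comb]
    rw [h2, map_zero, ← h1]
    simp only [Lib.TensorMod.Basis.comb, map_sum]
    refine Finset.sum_congr rfl fun l _ => ?_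
    rw [Scheme.Modules.Hom.app_smul, smul_comm, Module.Basis.mk_apply]
    congr 1
    rw [← rs_smul]
    refine Eq.trans ?_ (congrArg (rs ΛY.L (hVW.trans hW)) (hw2 l)).symm
    have e1 : (show Γ(ΩY, π ⁻¹ᵁ U₀.1) from αH.app U₀.1 (w₀ l)) =
        rs ΩY (π.preimage_mono h₀) (show Γ(ΩY, π ⁻¹ᵁ U.1) from αH.app U.1 (w l)) :=
      Lib.ClSub.Basis.map_app αH h₀ (w l)
    refine (congrArg (fun q => ΛY.ι.app V (rs ΩY hV₀ q)) e1).trans ?_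
    beta_reduce
    rw [rs_rs]
    exact Lib.ClSub.Basis.map_app ΛY.ι _ _
  refine eq_zero_of_basicOpen_eq_bot _ (le_bot_iff.mp fun y hy => ?_)
  exfalso
  obtain ⟨y', hy', hy₀⟩ := hdense.inter_open_nonempty _ (Y.basicOpen (t l)).2 ⟨y, hy⟩
  have h2 : Y.basicOpen (rf hVW (t l)) = V ⊓ Y.basicOpen (t l) := Scheme.basicOpen_res _ _ _
  have h3 : y' ∈ V ⊓ Y.basicOpen (t l) := ⟨⟨Y.basicOpen_le _ hy', hy₀⟩, hy'⟩
  rw [← h2, show rf hVW (t l) = 0 from congrFun key l, Scheme.basicOpen_zero] at h3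
  exact h3

end Groth.Agent.H12.CycOmega
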