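import Groth.Agent.H12.CycOmega.Frame
import Groth.Agent.Lib.Pinch.FrameSpread

/-!
# The pullback of logarithmic forms to a cyclic cover is an isomorphism
-/

set_option autoImplicit false
set_option linter.style.haveILetI false
set_option maxHeartbeats 400000
universe u
open CategoryTheory AlgebraicGeometry TopologicalSpace Opposite
open Groth.Agent.Lib.TensorMod.Dual (rs rf rs_rs rs_smul rs_self)
open Groth.Agent.Lib.TensorMod.Gen
open Groth.Agent.H12.CycConn Groth.Agent.H95 Groth.Agent.H95.CycCover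
open Groth.Agent.Lib.Pinch.StalkFrame (IsFrame)

namespace Groth.Agent.H12.CycOmega

section Stalk

/-- A family which is injective over every open and spans over a basis gives a frame. -/
theorem isFrame_of {Y : Scheme.{u}} {M : Y.Modules} {n : ℕ} {U : Y.Opens} (e : Fin n → Γ(M, U))
    (hinj : ∀ (W : Y.Opens) (h : W ≤ U) (c : Fin n → Γ(Y, W)), Lib.Pinch.StalkFrame.comb e h c = 0 → c = 0)
    (hsurj : ∀ {V : Y.Opens} {y : Y}, y ∈ V → V ≤ U → ∃ (W : Y.Opens) (h : W ≤ U), y ∈ W ∧ W ≤ V ∧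
      Function.Surjective (Lib.Pinch.StalkFrame.comb e h)) : IsFrame M U e := by
  classical
  intro y hy
  refine ⟨fun c c' hcc => sub_eq_zero.1 ?_, fun s => ?_⟩
  · have h0 : ∑ i, (c - c') i • M.presheaf.germ U y hy (e i) = 0 := by
      simp only [Pi.sub_apply, sub_smul, Finset.sum_sub_distrib]
      exact sub_eq_zero.2 hcc
    choose O hO t ht using fun i => TopCat.Presheaf.exists_germ_eq Y.presheaf ((c - c') i)
    let O' : Y.Opens := U ⊓ Finset.univ.inf O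
    have hyO : y ∈ O' := by
      refine ⟨hy, ?_⟩
      rw [SetLike.mem_coe, ← SetLike.mem_coe, Opens.coe_finset_inf, Finset.inf_set_eq_iInter]
      simp only [Set.mem_iInter]
      exact fun i _ => hO i
    have hle : ∀ i, O' ≤ O i := fun i => inf_le_right.trans (Finset.inf_le (Finset.mem_univ i))
    let cc : Fin n → Γ(Y, O') := fun i => rf (hle i) (t i)
    have hg : M.presheaf.germ O' y hyO (Lib.Pinch.StalkFrame.comb e (inf_le_left : O' ≤ U) cc) =
        M.presheaf.germ O' y hyO 0 := by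
      rw [Lib.Pinch.StalkFrame.germ_comb, map_zero]
      refine (Finset.sum_congr rfl fun i _ => ?_).trans h0
      exact congrArg (· • _) ((TopCat.Presheaf.germ_res_apply Y.presheaf (homOfLE (hle i)) y hyO (t i)).trans (ht i))
    obtain ⟨W, hyW, i₁, i₂, hW⟩ := TopCat.Presheaf.germ_eq M.presheaf y hyO hyO _ _ hg
    have hc0 := hinj W (i₁.le.trans inf_le_left) (fun i => rf i₁.le (cc i)) (by
      rw [← Lib.Pinch.StalkFrame.rs_comb e _ i₁.le cc]
      exact hW.trans (map_zero _))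
    funext i
    rw [← ht i, Pi.zero_apply, ← TopCat.Presheaf.germ_res_apply Y.presheaf (homOfLE (hle i)) y hyO (t i)]
    have := congrArg (Y.presheaf.germ W y hyW) (congrFun hc0 i)
    rw [Pi.zero_apply, map_zero] at this
    exact (TopCat.Presheaf.germ_res_apply Y.presheaf (homOfLE i₁.le) y hyW (cc i)).symm.trans this
  · obtain ⟨V, hV, t, rfl⟩ := TopCat.Presheaf.exists_germ_eq M.presheaf s
    obtain ⟨W, hWU, hyW, hWV, hsur⟩ := hsurj (V := V ⊓ U) ⟨hV, hy⟩ inf_le_right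
    obtain ⟨c, hc⟩ := hsur (rs M (hWV.trans inf_le_left) t)
    refine ⟨fun i => Y.presheaf.germ W y hyW (c i), ?_⟩
    exact ((Lib.Pinch.StalkFrame.germ_comb e hWU c hyW).symm.trans (congrArg _ hc)).trans
      (TopCat.Presheaf.germ_res_apply M.presheaf (homOfLE (hWV.trans inf_le_left)) y hyW t)

end Stalk

variable {k : Type u} [Field k] {X Y : Scheme.{u}} [IsIntegral X]
  (f : X ⟶ Spec (CommRingCat.of k)) [Smooth f] {L : X.Modules} {N : ℕ}
  {s : Coh.structureModule X ⟶ CohB1.tensorPow L N} {π : Y ⟶ X} (R : CycCov.Root L N s π)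
  {r : ℕ} (D : Fin r → X.IdealSheafData) (α : Fin r → ℕ)

include f R in
theorem exists_local [IsAlgClosed k] [IsAffineHom π] (hR : CycCov.IsCover R) (hL : PicF.IsInvertible L) (hN : 0 < N) (hNk : (N : k) ≠ 0)
    (hD : LogNCD.IsNCD D f) (hs : CycCov.IsZeroDiv (CohB1.tensorPow L N) s (CycCov.divIdeal D α))
    (hα : ∀ j, 0 < α j) (hdisj : ∀ (x : X) (j j' : Fin r), x ∈ (D j).support → x ∈ (D j').support → j = j')
    {x : X} {O : X.Opens} (hx : x ∈ O) :
    ∃ (U : X.affineOpens) (C : Data π D U) (a : Γ(X, U.1)) (σ ω : Γ(Y, π ⁻¹ᵁ U.1)) (u₀ : Γ(X, U.1)ˣ) (d m i : ℕ),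
      x ∈ U.1 ∧ U.1 ≤ O ∧ a ≠ 0 ∧ (d : k) ≠ 0 ∧ (m : k) ≠ 0 ∧
      ω ^ d = (π.app U.1).hom (u₀ : Γ(X, U.1)) ∧ σ ^ m = ω ^ i * (π.app U.1).hom a ∧
      (letI : Algebra Γ(X, U.1) Γ(Y, π ⁻¹ᵁ U.1) := (π.app U.1).hom.toAlgebra
       Algebra.adjoin Γ(X, U.1) ({σ, ω} : Set Γ(Y, π ⁻¹ᵁ U.1)) = ⊤) ∧
      (∀ j, C.h j = 1 ∨ (C.h j = σ ∧ C.g j = a ∧ C.m j = m ∧ (C.v j : Γ(Y, π ⁻¹ᵁ U.1)) * ω ^ i = 1)) ∧
      (IsUnit a ∨ ∃ j, C.h j = σ ∧ C.g j = a ∧ C.m j = m ∧ (C.v j : Γ(Y, π ⁻¹ᵁ U.1)) * ω ^ i = 1) ∧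
      (∀ j, C.g j = 1 ∨ C.g j = a) ∧
      (∀ (U₀ : X.affineOpens), U₀.1 ≤ U.1 → U₀.1 ≤ X.basicOpen a → Nonempty U₀.1 → (π.app U₀.1).hom.Etale) := by
  classical
  obtain ⟨U, e, a, u₀, β, hxU, hUO, he, hφ, ha, hreg, hin, hout, hnone⟩ :=
    CycCover.Glue.exists_local f D α hL hD hs (fun _ => True) (fun _ _ => trivial) x
      (fun j j' _ _ h h' => hdisj x j j' h h') hx
  haveI : Nonempty U.1 := ⟨⟨x, hxU⟩⟩
  have hrad : (Ideal.span ({a} : Set Γ(X, U.1))).IsRadical := by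
    refine (Ideal.isRadical_iff_quotient_reduced _).mpr ?_
    refine isReduced_ofLocalizationMaximal _ fun P _ => ?_
    haveI := hreg P
    haveI := Lib.Regular.Quotient.isDomain (Localization.AtPrime P)
    infer_instance
  obtain ⟨σ, ω, d, m, i, hdN, hm, hmeq, hω, hσ, hgen, -⟩ :=
    CycNCD.local_generators f R hN hNk hR U he a u₀ β hφ ha hrad
  obtain ⟨-, ⟨σ', w, hw, hσ', hradσ⟩, -⟩ := CycCover.Local.main f R hN hNk hR U he a u₀ β hφ ha hreg
  rw [← hmeq] at hσ'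
  have hd0 : d ≠ 0 := by rintro rfl; exact hN.ne' (zero_dvd_iff.mp hdN)
  letI : Algebra Γ(X, U.1) Γ(Y, π ⁻¹ᵁ U.1) := (π.app U.1).hom.toAlgebra
  have hω' : ω ^ d = (π.app U.1).hom (u₀ : Γ(X, U.1)) := hω
  have hσ2 : σ ^ m = ω ^ i * (π.app U.1).hom a := hσ
  have hωu : IsUnit (ω ^ i) := ((isUnit_pow_iff hd0).mp (hω' ▸ u₀.isUnit.map _)).pow i
  obtain ⟨W, hW⟩ := hw.exists_left_inv
  have hσσ : σ ∈ Ideal.span ({σ'} : Set Γ(Y, π ⁻¹ᵁ U.1)) := hradσ ⟨m, Ideal.mem_span_singleton.mpr ⟨ω ^ i * W * σ' ^ (m - 1), by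
    have h1 : σ' * σ' ^ (m - 1) = σ' ^ m := by rw [← pow_succ', Nat.sub_add_cancel hm]
    rw [hσ2, mul_comm, mul_comm _ (σ' ^ (m - 1))]
    linear_combination (-(ω ^ i * W)) * h1 - (ω ^ i * W) * hσ' - (ω ^ i * (π.app U.1).hom a) * hW⟩⟩
  obtain ⟨c, hc⟩ := Ideal.mem_span_singleton'.mp hσσ
  have hcu : IsUnit c := by
    have h1 : (π.app U.1).hom a * (c ^ m * w) = (π.app U.1).hom a * ω ^ i := by
      rw [mul_comm _ (ω ^ i), ← hσ2, ← hc, mul_pow, hσ']; ring
    have := CycPush.cancel R hL hN hR ha h1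
    exact (isUnit_pow_iff hm.ne').mp (isUnit_of_mul_isUnit_left (this ▸ hωu))
  have hspanσ : Ideal.span ({σ} : Set Γ(Y, π ⁻¹ᵁ U.1)) = Ideal.span {σ'} := by
    rw [← hc, Ideal.span_singleton_mul_left_unit hcu]
  obtain ⟨vu, hvu⟩ := hωu
  have hrdl : ∀ j, x ∈ (D j).support →
      (((D j).comap π).radical).ideal (pre π U) = Ideal.span {σ} := by
    intro j hj
    rw [Scheme.IdealSheafData.radical_ideal, Lib.Ideal.Comap.ideal_comap π (D j) U (pre π U) le_rfl,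
      (hin j trivial hj).1, Ideal.map_span, Set.image_singleton, ← Scheme.Hom.app_eq_appLE,
      ← Ideal.span_singleton_mul_left_unit (vu.isUnit), hvu, ← hσ2, ← Ideal.span_singleton_pow,
      Ideal.radical_pow _ hm.ne', hspanσ, hradσ.radical]
  let C : Data π D U :=
    { g := fun j => if x ∈ (D j).support then a else 1
      hg := fun j => by
        split_ifs with h
        · exact (hin j trivial h).1
        · rw [Ideal.span_singleton_one]; exact hout j trivial h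
      h := fun j => if x ∈ (D j).support then σ else 1
      hh := fun j => by
        split_ifs with h
        · exact hrdl j h
        · rw [Ideal.span_singleton_one, Scheme.IdealSheafData.radical_ideal,
            Lib.Ideal.Comap.ideal_comap π (D j) U (pre π U) le_rfl, hout j trivial h, Ideal.map_top, Ideal.radical_top]
      v := fun j => if x ∈ (D j).support then vu⁻¹ else 1
      m := fun j => if x ∈ (D j).support then m else 0
      eq := fun j => by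
        split_ifs with h
        · rw [hσ2, ← hvu, ← mul_assoc, Units.inv_mul, one_mul]
        · simp }
  refine ⟨U, C, a, σ, ω, u₀, d, m, i, hxU, hUO, ha, ?_, ?_, hω', hσ2, hgen, fun j => ?_, ?_, fun j => (em (x ∈ (D j).support)).symm.imp (fun h => if_neg h) (fun h => if_pos h), ?_⟩
  · intro h; obtain ⟨q, hq⟩ := hdN; exact hNk (by rw [hq, Nat.cast_mul, h, zero_mul])
  · intro h
    have hdvd : m ∣ N := hmeq ▸ Nat.div_dvd_of_dvd (Nat.gcd_dvd_left N β)
    obtain ⟨q, hq⟩ := hdvd; exact hNk (by rw [hq, Nat.cast_mul, h, zero_mul])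
  · by_cases h : x ∈ (D j).support
    · exact Or.inr ⟨if_pos h, if_pos h, if_pos h, by simp [C, if_pos h, ← hvu]⟩
    · exact Or.inl (if_neg h)
  · by_cases h : ∃ j, x ∈ (D j).support
    · obtain ⟨j, h⟩ := h; exact Or.inr ⟨j, if_pos h, if_pos h, if_pos h, by simp [C, if_pos h, ← hvu]⟩
    · push_neg at h; exact Or.inl (hnone fun j _ => h j)
  · intro U₀ hU₀ hU₀a hne
    haveI := hne
    have hau : IsUnit (rf hU₀ a) := by
      have h1 := (X.toRingedSpace.isUnit_res_basicOpen a).map (X.presheaf.map (homOfLE hU₀a).op).hom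
      convert h1 using 1
      exact (congr($(X.presheaf.map_comp (homOfLE (X.basicOpen_le a)).op (homOfLE hU₀a).op).hom a))
    have hφ₀ := Frames.phi_res s hU₀ e _ hφ
    rw [map_mul, map_pow] at hφ₀
    refine (CycCover.Local.main f R hN hNk hR U₀ (he.res hU₀) (rf hU₀ a) (Units.map (X.presheaf.map (homOfLE hU₀).op).hom.toMonoidHom u₀) β hφ₀ hau.ne_zero fun P hP => ?_).2.2 hau
    haveI : Subsingleton (Γ(X, U₀.1) ⧸ Ideal.span ({rf hU₀ a} : Set Γ(X, U₀.1))) :=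
      Ideal.Quotient.subsingleton_iff.mpr (Ideal.span_singleton_eq_top.mpr hau)
    exact absurd (Subsingleton.elim P ⊤) hP.ne_top

end Groth.Agent.H12.CycOmega

namespace Groth.Agent.H12.CycOmega

variable {k : Type u} [Field k] {X Y : Scheme.{u}} [IsIntegral X]
  (f : X ⟶ Spec (CommRingCat.of k)) [Smooth f] {L : X.Modules} {N : ℕ}
  {s : Coh.structureModule X ⟶ CohB1.tensorPow L N} {π : Y ⟶ X} (R : CycCov.Root L N s π)
  {r : ℕ} (D : Fin r → X.IdealSheafData) (α : Fin r → ℕ)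
  {ΩX : X.Modules} {dX : OmegaSh.Der f ΩX} (ΛX : LogNCD.LogMod dX D)
  {ΩY : Y.Modules} {dY : OmegaSh.Der (π ≫ f) ΩY}
  (ΛY : LogNCD.LogMod dY (fun j : Fin r => ((D j).comap π).radical))

include R in
/-- `π^* Ω¹_X(log D) = Ω¹_Y(log π^*D)` -/
theorem nonempty_iso [IsAlgClosed k] (hR : CycCov.IsCover R) (hL : PicF.IsInvertible L) (hN : 0 < N) (hNk : (N : k) ≠ 0)
    (hD : LogNCD.IsNCD D f) (hs : CycCov.IsZeroDiv (CohB1.tensorPow L N) s (CycCov.divIdeal D α))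
    (hα : ∀ j, 0 < α j) (hdisj : ∀ (x : X) (j j' : Fin r), x ∈ (D j).support → x ∈ (D j').support → j = j')
    (hdX : OmegaSh.IsUniversal dX) (hdY : OmegaSh.IsUniversal dY) :
    FlatMod.IsFinLocFree ΛX.L ∧ Nonempty ((Scheme.Modules.pullback π).obj ΛX.L ≅ ΛY.L) := by
  classical
  haveI := hR.1
  haveI : IsAffineHom π := inferInstance
  haveI : AlgebraicGeometry.IsReduced Y := H81.CycIrred.Geom.isReduced_of_cover R hR
  obtain ⟨n₀, hn₀⟩ := exists_relDim f hdX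
  haveI := hn₀
  have hfree : FlatMod.IsFinLocFree ΛX.L := fun x => by
    obtain ⟨U, hx, hi⟩ := Lib.LogNCD37.Free.isFinLocFreeOfRank n₀ hdX hD ΛX x
    exact ⟨U, n₀, hx, hi⟩
  refine ⟨hfree, ?_⟩
  obtain ⟨αH, hαd⟩ := exists_alpha (dY := dY) f π hdX
  obtain ⟨ψ₀, hψ⟩ := exists_psi (ΛX := ΛX) (ΛY := ΛY) hαd fun {V x} hx => by
    obtain ⟨U, C, a, σ, ω, u₀, d, m, i, hxU, hUV, -⟩ := exists_local f R D α hR hL hN hNk hD hs hα hdisj hx
    exact ⟨U, ⟨C⟩, hUV, hxU⟩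
  let ψ := ((Scheme.Modules.pullbackPushforwardAdjunction π).homEquiv _ _).symm ψ₀
  haveI : IsIso ψ := Lib.Pinch.StalkFrame.isIso_of_frames ψ fun y => by
    obtain ⟨U₁, n, c₁, hyU₁, hc₁⟩ := Lib.Pinch.StalkFrame.exists_isFrame hfree (π y)
    obtain ⟨U, C, a, σ, ω, u₀, d, m, i, hxU, hUU₁, ha, hd, hm, hω, hσ, hgen, hh, hcase, hg1, het⟩ :=
      exists_local f R D α hR hL hN hNk hD hs hα hdisj (x := π y) hyU₁
    have hc := Lib.KVec.ExtPowPull.isFrame_res hc₁ hUU₁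
    let c : Fin n → Γ(ΛX.L, U.1) := fun l => rs ΛX.L hUU₁ (c₁ l)
    refine ⟨π ⁻¹ᵁ U.1, n, fun l => ZarCoh.FlatBC.PullbackSections.pbRes π ΛX.L le_rfl (c l), hxU, hc.pbRes π le_rfl, ?_⟩
    have himg : (fun l => ψ.app (π ⁻¹ᵁ U.1) (ZarCoh.FlatBC.PullbackSections.pbRes π ΛX.L le_rfl (c l))) = img ψ₀ c := by
      funext l
      have h1 : ((Scheme.Modules.pullbackPushforwardAdjunction π).homEquiv _ _ ψ).app U.1 (c l) = ψ₀.app U.1 (c l) := by
        rw [Equiv.apply_symm_apply]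
      rw [Adjunction.homEquiv_unit] at h1
      refine (Lib.Modules.TensorSec.app_rs ψ (le_refl (π ⁻¹ᵁ U.1)) _).trans ?_
      exact (congrArg (rs ΛY.L (le_refl (π ⁻¹ᵁ U.1))) h1).trans (rs_self _ _ _)
    rw [himg]
    obtain ⟨-, dl', hdl', -, -, -⟩ := ΛY.rule (pre π U) C.h C.hh
    obtain ⟨hd', hl⟩ := gens_mem hαd hψ C hc hd hm hω hσ hgen hh hcase hdl'
    haveI hne : Nonempty (X.basicOpen a) := by
      obtain ⟨x, hx⟩ := (Opens.ne_bot_iff_nonempty _).1 fun h' => ha (eq_zero_of_basicOpen_eq_bot _ h')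
      exact ⟨⟨x, hx⟩⟩
    have hgu : ∀ j, IsUnit (rf (X.basicOpen_le a) (C.g j)) := fun j => by
      have hau : IsUnit (rf (X.basicOpen_le a) a) := X.toRingedSpace.isUnit_res_basicOpen a
      rcases hg1 j with h | h
      · rw [h, show rf (X.basicOpen_le a) (1 : Γ(X, U.1)) = 1 from map_one _]; exact isUnit_one
      · rw [h]; exact hau
    exact isFrame_of _ (fun W hW t ht => injective_img hαd hdX hdY hψ C hc het hgu hne
        (H81.CycIrred.Geom.dense_preimage R hL hN hR _) W hW t ht) fun {V y'} hy' hV => by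
      obtain ⟨δ, hδ, hyδ⟩ := (U.2.preimage π).exists_basicOpen_le (V := V) ⟨y', hy'⟩ (hV hy')
      exact ⟨_, Y.basicOpen_le δ, hyδ, hδ, span_basicOpen C hdY _ hd' hdl' hl δ⟩
  exact ⟨asIso ψ⟩

end Groth.Agent.H12.CycOmega
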