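
import Groth.Agent.H12.CycNCD.Loc
import Groth.Agent.H12.CycPush.Glue
import Groth.Agent.H12.CycConn.Main
import Groth.Agent.Lib.LogNCD37.Free
import Groth.Agent.Lib.LogNCD37.BasisHom
import Groth.Agent.Lib.KVec.ExtPowPull
import Groth.Agent.Lib.Conormal92.OmegaSect
import Groth.Agent.Lib.Modules.ProjFormula

/-!
# The pullback of logarithmic differentials to a cyclic cover
-/

set_option autoImplicit false
set_option linter.style.haveILetI false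
set_option maxHeartbeats 100000
universe u
open CategoryTheory AlgebraicGeometry TopologicalSpace Opposite
open Groth.Agent.Lib.TensorMod.Dual (rs rf rs_rs rs_smul)
open Groth.Agent.H12.CycConn

namespace Groth.Agent.H12.CycOmega

variable {k : Type u} [Field k] {X : Scheme.{u}} (f : X ⟶ Spec (CommRingCat.of k))

theorem exists_relDim [Smooth f] [IsIntegral X] {Ω : X.Modules} {d : OmegaSh.Der f Ω}
    (hd : OmegaSh.IsUniversal d) : ∃ n, SmoothOfRelativeDimension n f := by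
  choose n V U hV hU e hxU hs using Lib.Kaehler.SmoothChart.exists_std_chart f
  obtain ⟨x₀⟩ := (inferInstance : Nonempty X)
  refine ⟨n x₀, ⟨fun x => ?_⟩⟩
  have hb : ∀ y, ∃ b : Fin (n y) → Γ(Ω, U y), Lib.TensorMod.Basis.IsBasis b := fun y => by
    haveI : Nonempty (U y) := ⟨⟨y, hxU y⟩⟩
    obtain ⟨i⟩ := Lib.Kaehler.SmoothChart.nonempty_restrict_free (hV y) (hU y) (e y) (hs y) hd
    exact Lib.TensorMod.Basis.exists_basis_of_iso i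
  obtain ⟨b, hb₁⟩ := hb x
  obtain ⟨b₀, hb₀⟩ := hb x₀
  obtain ⟨p, hp⟩ := nonempty_preirreducible_inter (U x).isOpen (U x₀).isOpen ⟨x, hxU x⟩ ⟨x₀, hxU x₀⟩
  have hpi : p ∈ U x ⊓ U x₀ := hp
  have := Lib.LogNCD37.Frame.length_unique hpi (hb₁.res inf_le_left) (hb₀.res inf_le_right)
  exact ⟨V x, hV x, U x, hU x, hxU x, e x, this ▸ hs x⟩

variable {Y : Scheme.{u}} (π : Y ⟶ X) {ΩX : X.Modules} {dX : OmegaSh.Der f ΩX}
  {ΩY : Y.Modules} {dY : OmegaSh.Der (π ≫ f) ΩY}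

theorem exists_alpha (hdX : OmegaSh.IsUniversal dX) :
    ∃ αH : ΩX ⟶ (Scheme.Modules.pushforward π).obj ΩY, ∀ (U : X.Opens) (b : Γ(X, U)),
      (show Γ(ΩY, π ⁻¹ᵁ U) from αH.app U (dX.app U b)) = dY.app (π ⁻¹ᵁ U) ((π.app U).hom b) :=
  ⟨Lib.Kaehler.Basic.univDesc hdX (Lib.Kaehler.Basic.derPush π (𝟙 _) (Category.comp_id _) dY),
    fun U b => Lib.Kaehler.Basic.univDesc_app hdX _ U b⟩

variable {r : ℕ} {D : Fin r → X.IdealSheafData} [IsAffineHom π]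
  (ΛX : LogNCD.LogMod dX D) (ΛY : LogNCD.LogMod dY (fun j : Fin r => ((D j).comap π).radical))
  (αH : ΩX ⟶ (Scheme.Modules.pushforward π).obj ΩY)

/-- The preimage of an affine open. -/
abbrev pre (U : X.affineOpens) : Y.affineOpens := ⟨π ⁻¹ᵁ U.1, U.2.preimage π⟩

/-- Equations of the divisor and of its reduced preimage over `U`. -/
structure Data (D : Fin r → X.IdealSheafData) (U : X.affineOpens) where
  /-- the equations -/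
  g : Fin r → Γ(X, U.1)
  hg : ∀ j, (D j).ideal U = Ideal.span {g j}
  /-- the equations of the reduced preimages -/
  h : Fin r → Γ(Y, π ⁻¹ᵁ U.1)
  hh : ∀ j, (((D j).comap π).radical).ideal (pre π U) = Ideal.span {h j}
  /-- the units -/
  v : Fin r → Γ(Y, π ⁻¹ᵁ U.1)ˣ
  /-- the multiplicities -/
  m : Fin r → ℕ
  eq : ∀ j, (π.app U.1).hom (g j) = v j * h j ^ m j

variable {π} {f}

theorem res_app {U V : X.Opens} (h : V ≤ U) (b : Γ(X, U)) :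
    Y.presheaf.map (homOfLE (π.preimage_mono h)).op ((π.app U).hom b) = (π.app V).hom (rf h b) :=
  (congr($(π.naturality (homOfLE h).op) b)).symm

/-- Restriction of equations. -/
noncomputable def Data.res {U V : X.affineOpens} (C : Data π D U) (hVU : V.1 ≤ U.1) : Data π D V where
  g j := rf hVU (C.g j)
  hg j := Lib.LogNCD37.SubLog.ideal_restrict (D j) hVU (C.hg j)
  h j := rf (π.preimage_mono hVU) (C.h j)
  hh j := Lib.LogNCD37.SubLog.ideal_restrict _ (U := pre π U) (V := pre π V) (π.preimage_mono hVU) (C.hh j)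
  v j := Units.map (Y.presheaf.map (homOfLE (π.preimage_mono hVU)).op).hom.toMonoidHom (C.v j)
  m := C.m
  eq j := by
    rw [← res_app hVU, C.eq, map_mul, map_pow]
    rfl

theorem Data.regular {U : X.affineOpens} (C : Data π D U) (z : Γ(ΛY.L, π ⁻¹ᵁ U.1))
    (hz : (π.app U.1).hom (∏ j, C.g j) • z = 0) : z = 0 := by
  obtain ⟨hreg, -⟩ := ΛY.rule (pre π U) C.h C.hh
  have hpow : ∀ M : ℕ, ∀ w : Γ(ΛY.L, π ⁻¹ᵁ U.1), (∏ j, C.h j) ^ M • w = 0 → w = 0 := by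
    intro M
    induction M with
    | zero => intro w hw; rwa [pow_zero, one_smul] at hw
    | succ M ih => intro w hw; rw [pow_succ, mul_smul] at hw; exact hreg _ (ih _ hw)
  refine hpow (∑ j, C.m j) z ?_
  have h1 : (π.app U.1).hom (∏ j, C.g j) ∣ (∏ j, C.h j) ^ (∑ j, C.m j) := by
    rw [map_prod, ← Finset.prod_pow]
    refine Finset.prod_dvd_prod_of_dvd _ _ fun j _ => ?_
    rw [C.eq, (C.v j).isUnit.mul_left_dvd]
    exact pow_dvd_pow _ (Finset.single_le_sum (fun _ _ => Nat.zero_le _) (Finset.mem_univ j))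
  obtain ⟨c, hc⟩ := h1
  rw [hc, mul_comm, mul_smul, hz, smul_zero]

/-- `z` corresponds to `m`. -/
def Rel {X Y : Scheme.{u}} (π : Y ⟶ X) {ΩX LX : X.Modules} {ΩY LY : Y.Modules} (ιX : ΩX ⟶ LX) (ιY : ΩY ⟶ LY)
    (αH : ΩX ⟶ (Scheme.Modules.pushforward π).obj ΩY)
    (U : X.Opens) (G : Γ(X, U)) (m : Γ(LX, U)) (z : Γ(LY, π ⁻¹ᵁ U)) : Prop :=
  ∃ w : Γ(ΩX, U), G • m = ιX.app U w ∧
    (π.app U).hom G • z = ιY.app (π ⁻¹ᵁ U) (show Γ(ΩY, π ⁻¹ᵁ U) from αH.app U w)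

variable {ΛX ΛY αH}

theorem alpha_smul {U : X.Opens} (c : Γ(X, U)) (w : Γ(ΩX, U)) :
    (show Γ(ΩY, π ⁻¹ᵁ U) from αH.app U (c • w)) = (π.app U).hom c • (show Γ(ΩY, π ⁻¹ᵁ U) from αH.app U w) :=
  Scheme.Modules.Hom.app_smul αH c w

theorem Rel.smul {U : X.Opens} {G : Γ(X, U)} {m : Γ(ΛX.L, U)} {z : Γ(ΛY.L, π ⁻¹ᵁ U)}
    (h : Rel π ΛX.ι ΛY.ι αH U G m z) (c : Γ(X, U)) : Rel π ΛX.ι ΛY.ι αH U G (c • m) ((π.app U).hom c • z) := by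
  obtain ⟨w, h1, h2⟩ := h
  refine ⟨c • w, ?_, ?_⟩
  · rw [smul_comm, h1, Scheme.Modules.Hom.app_smul]
  · rw [smul_comm, h2, alpha_smul, Scheme.Modules.Hom.app_smul]

theorem Rel.mul {U : X.Opens} {G : Γ(X, U)} {m : Γ(ΛX.L, U)} {z : Γ(ΛY.L, π ⁻¹ᵁ U)}
    (h : Rel π ΛX.ι ΛY.ι αH U G m z) (c : Γ(X, U)) : Rel π ΛX.ι ΛY.ι αH U (c * G) m z := by
  obtain ⟨w, h1, h2⟩ := h
  refine ⟨c • w, ?_, ?_⟩
  · rw [mul_smul, h1, Scheme.Modules.Hom.app_smul]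
  · rw [map_mul, mul_smul, h2, alpha_smul, Scheme.Modules.Hom.app_smul]

theorem Rel.add {U : X.Opens} {G : Γ(X, U)} {m m' : Γ(ΛX.L, U)} {z z' : Γ(ΛY.L, π ⁻¹ᵁ U)}
    (h : Rel π ΛX.ι ΛY.ι αH U G m z) (h' : Rel π ΛX.ι ΛY.ι αH U G m' z') :
    Rel π ΛX.ι ΛY.ι αH U G (m + m') (z + z') := by
  obtain ⟨w, h1, h2⟩ := h
  obtain ⟨w', h3, h4⟩ := h'
  refine ⟨w + w', ?_, ?_⟩
  · rw [smul_add, h1, h3, map_add]
  · rw [smul_add, h2, h4]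
    exact (map_add (ΛY.ι.app (π ⁻¹ᵁ U)).hom _ _).symm.trans
      (congrArg _ (map_add (αH.app U).hom w w').symm)

theorem Rel.res {U V : X.Opens} (h : V ≤ U) {G : Γ(X, U)} {m : Γ(ΛX.L, U)} {z : Γ(ΛY.L, π ⁻¹ᵁ U)}
    (hr : Rel π ΛX.ι ΛY.ι αH U G m z) :
    Rel π ΛX.ι ΛY.ι αH V (rf h G) (rs ΛX.L h m) (rs ΛY.L (π.preimage_mono h) z) := by
  obtain ⟨w, h1, h2⟩ := hr
  refine ⟨rs ΩX h w, ?_, ?_⟩
  · rw [← rs_smul, h1]
    exact (Lib.ClSub.Basis.map_app ΛX.ι h w).symm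
  · rw [← res_app h, ← rs_smul, h2]
    refine (Lib.ClSub.Basis.map_app ΛY.ι (π.preimage_mono h) _).symm.trans ?_
    exact congrArg _ (Lib.ClSub.Basis.map_app αH h w).symm

theorem Rel.unique {U : X.affineOpens} (C : Data π D U) {m : Γ(ΛX.L, U.1)} {z z' : Γ(ΛY.L, π ⁻¹ᵁ U.1)}
    (h : Rel π ΛX.ι ΛY.ι αH U.1 (∏ j, C.g j) m z) (h' : Rel π ΛX.ι ΛY.ι αH U.1 (∏ j, C.g j) m z') : z = z' := by
  obtain ⟨w, h1, h2⟩ := h
  obtain ⟨w', h3, h4⟩ := h'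
  haveI := ΛX.mono
  obtain rfl := Lib.LogNCD37.SubLog.app_injective ΛX.ι U.1 (h1.symm.trans h3)
  rw [← sub_eq_zero]
  exact C.regular ΛY _ (by rw [smul_sub, h2, h4, sub_self])

theorem exists_rel_dl (hα : ∀ (U : X.Opens) (b : Γ(X, U)),
      (show Γ(ΩY, π ⁻¹ᵁ U) from αH.app U (dX.app U b)) = dY.app (π ⁻¹ᵁ U) ((π.app U).hom b))
    {U : X.affineOpens} (C : Data π D U) (j : Fin r) {dl : Γ(ΛX.L, U.1)}
    (hdl : C.g j • dl = ΛX.ι.app U.1 (dX.app U.1 (C.g j)))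
    {dl' : Γ(ΛY.L, π ⁻¹ᵁ U.1)} (hdl' : C.h j • dl' = ΛY.ι.app (π ⁻¹ᵁ U.1) (dY.app (π ⁻¹ᵁ U.1) (C.h j))) :
    Rel π ΛX.ι ΛY.ι αH U.1 (∏ l, C.g l) dl
      ((((C.v j)⁻¹ : Γ(Y, π ⁻¹ᵁ U.1)ˣ) : Γ(Y, π ⁻¹ᵁ U.1)) •
        (LogNCD.der ΛY).app (π ⁻¹ᵁ U.1) (C.v j : Γ(Y, π ⁻¹ᵁ U.1)) + (C.m j : Γ(Y, π ⁻¹ᵁ U.1)) • dl') := by
  classical
  have h1 : Rel π ΛX.ι ΛY.ι αH U.1 (C.g j) dl ((((C.v j)⁻¹ : Γ(Y, π ⁻¹ᵁ U.1)ˣ) : Γ(Y, π ⁻¹ᵁ U.1)) •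
        (LogNCD.der ΛY).app (π ⁻¹ᵁ U.1) (C.v j : Γ(Y, π ⁻¹ᵁ U.1)) + (C.m j : Γ(Y, π ⁻¹ᵁ U.1)) • dl') := by
    refine ⟨dX.app U.1 (C.g j), hdl, ?_⟩
    rw [hα, C.eq]
    exact (isDlog_unit (δ := LogNCD.der ΛY) (C.v j)).mul (IsDlog.pow (δ := LogNCD.der ΛY) hdl' (C.m j))
  have h2 := h1.mul (∏ l ∈ Finset.univ.erase j, C.g l)
  rwa [mul_comm, Finset.mul_prod_erase _ _ (Finset.mem_univ j)] at h2

theorem exists_rel (hα : ∀ (U : X.Opens) (b : Γ(X, U)),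
      (show Γ(ΩY, π ⁻¹ᵁ U) from αH.app U (dX.app U b)) = dY.app (π ⁻¹ᵁ U) ((π.app U).hom b))
    {U : X.affineOpens} (C : Data π D U) (m : Γ(ΛX.L, U.1)) :
    ∃ z, Rel π ΛX.ι ΛY.ι αH U.1 (∏ l, C.g l) m z := by
  obtain ⟨-, dl, hdl, hspan, -, -⟩ := ΛX.rule U C.g C.hg
  obtain ⟨-, dl', hdl', -, -, -⟩ := ΛY.rule (pre π U) C.h C.hh
  have hm : m ∈ Submodule.span Γ(X, U.1) ((Set.range fun w : Γ(ΩX, U.1) => ΛX.ι.app U.1 w) ∪ Set.range dl : Set Γ(ΛX.L, U.1)) :=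
    hspan.ge trivial
  induction hm using Submodule.span_induction with
  | mem m hm =>
    rcases hm with ⟨w, rfl⟩ | ⟨j, rfl⟩
    · refine ⟨ΛY.ι.app (π ⁻¹ᵁ U.1) (show Γ(ΩY, π ⁻¹ᵁ U.1) from αH.app U.1 w), (∏ l, C.g l) • w, ?_, ?_⟩
      · exact (Scheme.Modules.Hom.app_smul ΛX.ι _ w).symm
      · exact (Scheme.Modules.Hom.app_smul ΛY.ι _ _).symm.trans (congrArg _ (alpha_smul (αH := αH) _ w).symm)
    · exact ⟨_, exists_rel_dl hα C j (hdl j) (hdl' j)⟩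
  | zero => exact ⟨0, 0, by simp, by rw [smul_zero]; exact ((congrArg (ΛY.ι.app (π ⁻¹ᵁ U.1)) (map_zero (αH.app U.1).hom)).trans (map_zero (ΛY.ι.app (π ⁻¹ᵁ U.1)).hom)).symm⟩
  | add a b _ _ ha hb =>
    obtain ⟨z, hz⟩ := ha
    obtain ⟨z', hz'⟩ := hb
    exact ⟨_, hz.add hz'⟩
  | smul c a _ ha =>
    obtain ⟨z, hz⟩ := ha
    exact ⟨_, hz.smul c⟩

/-- The comparison morphism. -/
theorem exists_psi (hα : ∀ (U : X.Opens) (b : Γ(X, U)),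
      (show Γ(ΩY, π ⁻¹ᵁ U) from αH.app U (dX.app U b)) = dY.app (π ⁻¹ᵁ U) ((π.app U).hom b))
    (hgood : ∀ {V : X.Opens} {x : X}, x ∈ V → ∃ U : X.affineOpens, Nonempty (Data π D U) ∧ U.1 ≤ V ∧ x ∈ U.1) :
    ∃ ψ : ΛX.L ⟶ (Scheme.Modules.pushforward π).obj ΛY.L, ∀ (U : X.affineOpens) (C : Data π D U) (m : Γ(ΛX.L, U.1)),
      Rel π ΛX.ι ΛY.ι αH U.1 (∏ l, C.g l) m (show Γ(ΛY.L, π ⁻¹ᵁ U.1) from ψ.app U.1 m) := by
  classical
  have key : ∀ (U : X.affineOpens) (C C' : Data π D U) (m : Γ(ΛX.L, U.1)) z,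
      Rel π ΛX.ι ΛY.ι αH U.1 (∏ l, C.g l) m z → Rel π ΛX.ι ΛY.ι αH U.1 (∏ l, C'.g l) m z := by
    intro U C C' m z hz
    have : ∀ l, ∃ c, C'.g l = c * C.g l := fun l => by
      have h1 : C'.g l ∈ Ideal.span {C.g l} := by
        rw [← C.hg, C'.hg]; exact Ideal.mem_span_singleton_self _
      obtain ⟨c, hc⟩ := Ideal.mem_span_singleton'.mp h1
      exact ⟨c, hc.symm⟩
    choose c hc using this
    rw [show ∏ l, C'.g l = (∏ l, c l) * ∏ l, C.g l by simp only [hc, Finset.prod_mul_distrib]]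
    exact hz.mul _
  let C₀ : ∀ U : X.affineOpens, Nonempty (Data π D U) → Data π D U := fun U p => p.some
  choose φ hφ using fun (U : X.affineOpens) (p : Nonempty (Data π D U)) (m : Γ(ΛX.L, U.1)) =>
    exists_rel (ΛX := ΛX) (ΛY := ΛY) (αH := αH) hα (C₀ U p) m
  let φl : ∀ U : X.affineOpens, Nonempty (Data π D U) → Γ(ΛX.L, U.1) →ₗ[Γ(X, U.1)]
      Γ((Scheme.Modules.pushforward π).obj ΛY.L, U.1) := fun U p =>
    { toFun := φ U p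
      map_add' := fun a b => Rel.unique (C₀ U p) (hφ U p _) ((hφ U p a).add (hφ U p b))
      map_smul' := fun c a => Rel.unique (C₀ U p) (hφ U p _) ((hφ U p a).smul c) }
  obtain ⟨ψ, hψ⟩ := Lib.LogNCD37.BasisHom.exists_hom (M := ΛX.L)
    (N := (Scheme.Modules.pushforward π).obj ΛY.L) (fun U => Nonempty (Data π D U)) hgood φl
    fun U V pU pV h m => by
      have h1 : Rel π ΛX.ι ΛY.ι αH V.1 (∏ l, ((C₀ U pU).res h).g l) (rs ΛX.L h m)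
          (rs ΛY.L (π.preimage_mono h) (φ U pU m)) := by
        have := (hφ U pU m).res h
        rwa [show rf h (∏ l, (C₀ U pU).g l) = ∏ l, rf h ((C₀ U pU).g l) from map_prod _ _ _] at this
      exact Rel.unique (C₀ V pV) (key V _ _ _ _ h1) (hφ V pV _)
  refine ⟨ψ, fun U C m => ?_⟩
  rw [hψ U ⟨C⟩ m]
  exact key U (C₀ U ⟨C⟩) C _ _ (hφ U ⟨C⟩ m)

end Groth.Agent.H12.CycOmega
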